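import Groth.Agent.UnivOpen.SectionConst
import Groth.Agent.FibDim.LocDim
import Groth.Agent.FibDim.Comp
import Mathlib

/-!
Dimension of section components in the finitely presented case (EGA IV 15.6.7, non-Noetherian base).
-/

set_option autoImplicit false
set_option linter.style.haveILetI false

open AlgebraicGeometry CategoryTheory Limits Topology IsLocalRing

namespace Groth.Agent.H1Sec

open Groth.Agent Groth.Agent.UnivOpen

universe u

variable {X Y : Scheme.{u}} (f : X ⟶ Y)

/-- A generization of a point with Noetherian local ring is dominated by a DVR. -/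
theorem exists_dvr_lift_stalk {s s' : Y} [IsNoetherianRing (Y.presheaf.stalk s)] (hs : s' ⤳ s) (hne : s ≠ s') :
    ∃ (A : Type u) (_ : CommRing A) (_ : IsDomain A) (_ : IsDiscreteValuationRing A)
      (τ : Spec (CommRingCat.of A) ⟶ Y), τ (IsLocalRing.closedPoint A) = s ∧
      ∀ η : Spec (CommRingCat.of A), η ≠ IsLocalRing.closedPoint A → τ η = s' := by
  haveI : IsLocallyNoetherian (Spec (Y.presheaf.stalk s)) := inferInstance
  obtain ⟨t', ht'⟩ : s' ∈ Set.range (Y.fromSpecStalk s) := by rw [Scheme.range_fromSpecStalk]; exact hs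
  let t : Spec (Y.presheaf.stalk s) := closedPoint (Y.presheaf.stalk s)
  have ht : Y.fromSpecStalk s t = s := Scheme.fromSpecStalk_closedPoint
  have hspec : t' ⤳ t := (IsLocalRing.specializes_closedPoint _)
  obtain ⟨A, i1, i2, i3, τ, hc, hη⟩ := UnivOpen.exists_dvr_lift hspec fun e => hne (by rw [← ht, e, ht'])
  exact ⟨A, i1, i2, i3, τ ≫ Y.fromSpecStalk s, (congrArg (Y.fromSpecStalk s) hc).trans ht,
    fun η h => (congrArg (Y.fromSpecStalk s) (hη η h)).trans ht'⟩

/-- EGA IV 15.6.7 (α): the dimension does not drop at a generization. -/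
theorem dim_le_of_geomReduced [LocallyOfFiniteType f] {g : Y ⟶ X} (hg : g ≫ f = 𝟙 Y)
    (hgi : ∀ (y : Y) (K : Type u) [Field K] [Algebra (IsLocalRing.ResidueField (Y.presheaf.stalk y)) K],
      IsIrreducible ((FBase.bcπ (f.fiberToSpecResidueField y) K ≫ f.fiberι y).base ⁻¹' (connectedComponentIn (f.base ⁻¹' {y}) (g.base y))))
    {y₀ y' : Y} [IsNoetherianRing (Y.presheaf.stalk y₀)] (hy : y' ⤳ y₀) (hne : y₀ ≠ y')
    (hopen : ∀ ξ ∈ connectedComponentIn (f.base ⁻¹' {y₀}) (g.base y₀),
      connectedComponentIn (f.base ⁻¹' {y₀}) (g.base y₀) ⊆ closure {ξ} → EGA43.IsUnivOpenAt f ξ)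
    (a : ↥(f.fiber y₀)) (ha₀ : f.fiberι y₀ a = g y₀) (hred : FBase.IsGeomReducedAt (f.fiberToSpecResidueField y₀) a) :
    topologicalKrullDim ↥(connectedComponentIn (f.base ⁻¹' {y₀}) (g.base y₀)) ≤
      topologicalKrullDim ↥(connectedComponentIn (f.base ⁻¹' {y'}) (g.base y')) := by
  have hirr := irreducible_of_geomIrreducible f hgi
  obtain ⟨A, _, _, _, τ, hτc, hτη⟩ := exists_dvr_lift_stalk hy hne
  haveI : IsLocallyNoetherian (Spec (CommRingCat.of A)) := inferInstance
  let η : Spec (CommRingCat.of A) := (⟨⊥, Ideal.isPrime_bot⟩ : PrimeSpectrum A)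
  let c : Spec (CommRingCat.of A) := closedPoint A
  have hηne : η ≠ c := fun h => IsDiscreteValuationRing.not_a_field A (congrArg PrimeSpectrum.asIdeal h).symm
  have hcases : ∀ t : Spec (CommRingCat.of A), t ≠ c → t = η := fun t ht => by
    refine PrimeSpectrum.ext ?_
    by_contra h
    exact ht (PrimeSpectrum.ext (IsLocalRing.eq_maximalIdeal ((t : PrimeSpectrum A).isPrime.isMaximal h)))
  have hτ : τ η = y' := hτη η hηne
  have hηc : η ⤳ c := (PrimeSpectrum.le_iff_specializes
    (⟨⊥, Ideal.isPrime_bot⟩ : PrimeSpectrum A) (closedPoint A : PrimeSpectrum A)).1 bot_le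
  let q := pullback.snd f τ
  let p := pullback.fst f τ
  let g' : Spec (CommRingCat.of A) ⟶ pullback f τ := pullback.lift (τ ≫ g) (𝟙 _)
    (by rw [Category.assoc, hg, Category.comp_id, Category.id_comp])
  have hg' : g' ≫ q = 𝟙 _ := pullback.lift_snd _ _ _
  have hg'₁ : g' ≫ p = τ ≫ g := pullback.lift_fst _ _ _
  have hpg : ∀ t, p (g' t) = g (τ t) := fun t => by rw [← Scheme.Hom.comp_apply, hg'₁]; rfl
  obtain ⟨ξ, hfξ, hξg, hξm, hC, hξv, hdC⟩ := exists_component_generic f (apply_section hg y₀) (hirr y₀)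
  obtain ⟨ξ', hfξ', -, -, hC', hξ'v, hdC'⟩ := exists_component_generic f (apply_section hg y') (hirr y')
  rw [dim_component f (apply_section hg _) (hirr _), dim_component f (apply_section hg _) (hirr _), hdC, hdC']
  suffices FibDim.rd f ξ ≤ FibDim.rd f ξ' by exact_mod_cast this
  -- the generic point of the closed fibre at the section
  obtain ⟨v, hvp, hvq, hvr⟩ := FibDim.exists_rd_baseChange_eq (IsPullback.of_hasPullback f τ) ξ c (hfξ.trans hτc.symm)
  have hS := isIrreducible_preimage_over f τ c hτc _ (connectedComponentIn_subset _ _) (hgi y₀)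
  let S := {v : ↥(pullback f τ) | q v = c ∧ p v ∈ connectedComponentIn (f.base ⁻¹' {y₀}) (g.base y₀)}
  let ω := hS.genericPoint
  have hω : IsGenericPoint ω (closure S) := hS.isGenericPoint_genericPoint_closure
  have hgS : g' c ∈ S := ⟨apply_section hg' c, by
    rw [hpg, hτc]; exact mem_connectedComponentIn (apply_section hg _)⟩
  have hωg : ω ⤳ g' c := hω.specializes (subset_closure hgS)
  have hqω : q ω = c := by
    have h1 : q ω ⤳ c := (hωg.map q.continuous).trans (specializes_of_eq (apply_section hg' c))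
    have h2 : c ⤳ q ω := by
      rw [specializes_iff_mem_closure]
      refine closure_mono ?_ (image_closure_subset_closure_image q.continuous ⟨ω, hω.mem, rfl⟩)
      exact Set.image_subset_iff.2 fun v hv => hv.1
    exact (h1.antisymm h2).eq
  have hωv : ω ⤳ v := hω.specializes (subset_closure ⟨hvq, by
    show p v ∈ _
    rw [show p v = ξ from hvp, hC]
    exact ⟨subset_closure rfl, hfξ⟩⟩)
  have hpω : p ω = ξ := by
    refine hξm _ ((hωv.map p.continuous).trans (specializes_of_eq hvp)) ?_
    rw [← Scheme.Hom.comp_apply, pullback.condition, Scheme.Hom.comp_apply, hqω, hτc, hfξ]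
  have hωm : FibDim.FibMax q ω := fun z hz hqz => by
    have hzg := hz.trans hωg
    have hfz : f (p z) = y₀ := by
      rw [← Scheme.Hom.comp_apply, pullback.condition, Scheme.Hom.comp_apply, hqz, hqω, hτc]
    have hzC : p z ∈ connectedComponentIn (f.base ⁻¹' {y₀}) (g.base y₀) := by
      rw [hC]
      refine ⟨specializes_iff_mem_closure.1 (hξv _ hfz ?_), hfz⟩
      have := hzg.map p.continuous
      rwa [hpg, hτc] at this
    exact (hz.antisymm (hω.specializes (subset_closure ⟨hqz.trans hqω, hzC⟩))).eq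
  have hωopen : EGA43.IsOpenAt q.base ω :=
    hopen ξ (by rw [hC]; exact ⟨subset_closure rfl, hfξ⟩) (by rw [hC]; exact Set.inter_subset_left) _ τ ω hpω
  obtain ⟨z, hz, hqz, hrz⟩ := FibDim.exists_generization_rd_ge q hωopen (y' := η) (by rw [hqω]; exact hηc)
  have hr : FibDim.rd f ξ ≤ FibDim.rd q ω :=
    hvr ▸ FibDim.rd_le_of_specializes q hωv (hqω.trans hvq.symm)
  refine (hr.trans (hrz.trans (FibDim.rd_baseChange_le (IsPullback.of_hasPullback f τ) z))).trans ?_
  -- the point of the generic fibre lies in the component of the section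
  have hfz : f (p z) = y' := by
    rw [← Scheme.Hom.comp_apply, pullback.condition, Scheme.Hom.comp_apply, hqz, hτ]
  suffices hmem : p z ∈ connectedComponentIn (f.base ⁻¹' {y'}) (g.base y') by
    rw [hC'] at hmem
    exact FibDim.rd_le_of_specializes f (specializes_iff_mem_closure.2 hmem.1) (hfξ'.trans hfz.symm)
  obtain ⟨w, hw⟩ : g' c ∈ Set.range (q.fiberι c) := by
    rw [Scheme.Hom.range_fiberι]; exact apply_section hg' c
  have hwred := isReduced_fibre_baseChange f τ hτc a hred w
    (by rw [hw, ha₀]; exact (hpg c).trans (congrArg g hτc))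
  have hzw : z ⤳ q.fiberι c w := by rw [hw]; exact hz.trans hωg
  have hgw : g' η ⤳ q.fiberι c w := by rw [hw]; exact hηc.map g'.continuous
  have hqopen : ∀ z', z' ⤳ q.fiberι c w → q z' = q (q.fiberι c w) → FibDim.FibMax q z' →
      EGA43.IsOpenAt q.base z' := by
    intro z' hz' hqz' hm'
    rw [hw] at hz' hqz'
    rw [apply_section hg'] at hqz'
    have hfz' : f (p z') = y₀ := by
      rw [← Scheme.Hom.comp_apply, pullback.condition, Scheme.Hom.comp_apply, hqz', hτc]
    have hz'C : p z' ∈ connectedComponentIn (f.base ⁻¹' {y₀}) (g.base y₀) := by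
      rw [hC]
      refine ⟨specializes_iff_mem_closure.1 (hξv _ hfz' ?_), hfz'⟩
      have := hz'.map p.continuous
      rwa [hpg, hτc] at this
    obtain rfl : ω = z' := hm' ω (hω.specializes (subset_closure ⟨hqz', hz'C⟩)) (hqω.trans hqz'.symm)
    exact hωopen
  have hfib : ∀ z', q z' = η → f (p z') = y' := fun z' h => by
    rw [← Scheme.Hom.comp_apply, pullback.condition, Scheme.Hom.comp_apply, h, hτ]
  obtain ⟨T, hT, hzT, hgT⟩ := FlatDvr.exists_preconnected_generic q rfl w hqopen hwred hzw hgw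
    (fun h => hηne (hqz.symm.trans h)) (fun h => hηne ((apply_section hg' η).symm.trans h))
  have hTη : ∀ t ∈ T, q t = η := fun t ht => hcases _ (hT.2 t ht)
  refine (hT.1.image p p.continuous.continuousOn).subset_connectedComponentIn
    ⟨g' η, hgT, (hpg η).trans (congrArg g hτ)⟩ ?_ ⟨z, hzT, rfl⟩
  rintro _ ⟨t, ht, rfl⟩
  exact hfib t (hTη t ht)

/-- The set of points of the base where the fibre dimension along a section is at least `n` is
locally constructible. -/
theorem isLocallyConstructible_le [LocallyOfFinitePresentation f] (g : Y ⟶ X) (n : ℕ) :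
    IsLocallyConstructible (g.base ⁻¹' {x | (n : WithBot ℕ∞) ≤ FlatMor.fibreDimAt f x}) := by
  cases n with
  | zero =>
    have h : {x : X | ((0 : ℕ) : WithBot ℕ∞) ≤ FlatMor.fibreDimAt f x} = Set.univ := by
      ext x
      obtain ⟨z, -, -, he, -⟩ := FibDim.exists_fibreDimAt_eq f x
      simp [he]
    rw [h, Set.preimage_univ]
    exact IsConstructible.univ.isLocallyConstructible
  | succ n =>
    let S := {x : X | FlatMor.fibreDimAt f x ≤ n}
    have hS : {x : X | ((n + 1 : ℕ) : WithBot ℕ∞) ≤ FlatMor.fibreDimAt f x} = Sᶜ := by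
      ext x
      obtain ⟨z, -, -, he, -⟩ := FibDim.exists_fibreDimAt_eq f x
      simp only [Set.mem_compl_iff, Set.mem_ofPred_eq, he, S]
      norm_cast
      omega
    rw [hS, Set.preimage_compl]
    intro y
    obtain ⟨U, hU, hgU, -⟩ := exists_isAffineOpen_mem_and_subset (x := g y) (U := ⊤) trivial
    obtain ⟨V, hV, hyV, hVU⟩ := exists_isAffineOpen_mem_and_subset (x := y) (U := g ⁻¹ᵁ U) hgU
    obtain ⟨_, _, _, _⟩ := ProConsLib.spectral_opens hV
    refine ⟨V, V.isOpen.mem_nhds hyV, V.isOpen, ?_⟩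
    have hSc : IsCompact (S ∩ U) :=
      Set.inter_comm (U : Set X) S ▸ (by
        have := FibDim.isRetrocompact_setOf_fibreDimAt_le f n hU.isCompact U.isOpen
        rwa [Set.inter_comm] at this)
    haveI : IsAffine (V : Scheme.{u}) := hV
    haveI : IsAffine (U : Scheme.{u}) := hU
    let r : (V : Scheme.{u}) ⟶ (U : Scheme.{u}) := g.resLE U V hVU
    have hW : IsCompact (U.ι ⁻¹' S) := by
      rw [U.ι.isEmbedding.isCompact_iff, Set.image_preimage_eq_inter_range, Scheme.Opens.range_ι]
      exact hSc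
    have hWo : IsOpen (U.ι ⁻¹' S) := (FibDim.isOpen_fibreDimAt_le f n).preimage U.ι.continuous
    have hpc : IsCompact (r ⁻¹' (U.ι ⁻¹' S)) := QuasiCompact.isCompact_preimage (f := r) _ hWo hW
    have hrι : ∀ v, U.ι (r v) = g (V.ι v) := fun v => by
      rw [← Scheme.Hom.comp_apply, show r ≫ U.ι = V.ι ≫ g from Scheme.Hom.resLE_comp_ι _ _]; rfl
    have heq : (Subtype.val ⁻¹' (g.base ⁻¹' S)ᶜ : Set (V : Set Y)) = (r ⁻¹' (U.ι ⁻¹' S))ᶜ := by
      ext v
      exact not_congr (iff_of_eq (congrArg (· ∈ S) (hrι v).symm))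
    rw [heq]
    have hpo : IsOpen (r ⁻¹' (U.ι ⁻¹' S)) := hWo.preimage r.continuous
    exact (IsRetrocompact.isConstructible hpo (IsCompact.isRetrocompact hpc hpo)).compl

end Groth.Agent.H1Sec
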